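import Mathlib

/-!
# S3911: subgroups of cyclic groups are determined by their order; joins of commuting subgroups
-/

set_option autoImplicit false

namespace Cfsg.Agent.Lib.S3911

theorem le_of_card_dvd_cyclic {C : Type*} [Group C] [Finite C] [IsCyclic C] (H K : Subgroup C)
    (h : Nat.card H ∣ Nat.card K) : H ≤ K := by
  classical
  have := Fintype.ofFinite C
  set n := Nat.card K with hn
  have hn0 : 0 < n := Nat.card_pos
  have h1 : (Finset.univ.filter (fun a : C => a ^ n = 1)).card ≤ n :=
    IsCyclic.card_pow_eq_one_le hn0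
  have hK : (K : Set C).toFinset ⊆ Finset.univ.filter (fun a : C => a ^ n = 1) := by
    intro x hx
    simp only [Set.mem_toFinset, SetLike.mem_coe] at hx
    simp only [Finset.mem_filter, Finset.mem_univ, true_and]
    have : (⟨x, hx⟩ : K) ^ Nat.card K = 1 := pow_card_eq_one'
    have h3 := congrArg Subtype.val this
    simpa only [Subgroup.coe_pow, Subgroup.coe_one] using h3
  have hKc : (K : Set C).toFinset.card = n := by
    rw [Set.toFinset_card, hn, Nat.card_eq_fintype_card]
    rfl
  have heq : (K : Set C).toFinset = Finset.univ.filter (fun a : C => a ^ n = 1) :=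
    Finset.eq_of_subset_of_card_le hK (by rw [hKc]; exact h1)
  intro x hx
  have hx1 : x ^ n = 1 := by
    obtain ⟨m, hm⟩ := h
    have : (⟨x, hx⟩ : H) ^ Nat.card H = 1 := pow_card_eq_one'
    have h2 : x ^ Nat.card H = 1 := by
      have h3 := congrArg Subtype.val this
      simpa only [Subgroup.coe_pow, Subgroup.coe_one] using h3
    rw [hm, pow_mul, h2, one_pow]
  have : x ∈ Finset.univ.filter (fun a : C => a ^ n = 1) := by simp [hx1]
  rw [← heq] at this
  simpa using this

variable {G : Type*} [Group G]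

theorem le_of_card_dvd_of_le_cyclic (P H K : Subgroup G) [IsCyclic ↥P] [Finite ↥P]
    (hH : H ≤ P) (hK : K ≤ P) (h : Nat.card ↥H ∣ Nat.card ↥K) : H ≤ K := by
  have h1 : Nat.card ↥(H.subgroupOf P) = Nat.card ↥H :=
    Nat.card_congr (Subgroup.subgroupOfEquivOfLe hH).toEquiv
  have h2 : Nat.card ↥(K.subgroupOf P) = Nat.card ↥K :=
    Nat.card_congr (Subgroup.subgroupOfEquivOfLe hK).toEquiv
  have := le_of_card_dvd_cyclic (H.subgroupOf P) (K.subgroupOf P) (by rw [h1, h2]; exact h)
  intro x hx
  have hx' : (⟨x, hH hx⟩ : ↥P) ∈ H.subgroupOf P := hx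
  exact this hx'

/-- order of the join of two elementwise commuting subgroups meeting trivially -/
theorem card_sup_comm (A B : Subgroup G) (hc : ∀ a ∈ A, ∀ b ∈ B, a * b = b * a)
    (hinf : A ⊓ B = ⊥) : Nat.card ↥(A ⊔ B) = Nat.card ↥A * Nat.card ↥B := by
  rw [← Nat.card_prod]
  symm
  have hmem : ∀ (a : A) (b : B), (a : G) * (b : G) ∈ A ⊔ B := fun a b =>
    Subgroup.mul_mem _ (Subgroup.mem_sup_left a.2) (Subgroup.mem_sup_right b.2)
  apply Nat.card_congr
  refine Equiv.ofBijective
    (fun q : A × B => (⟨(q.1 : G) * (q.2 : G), hmem q.1 q.2⟩ : ↥(A ⊔ B))) ⟨?_, ?_⟩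
  · rintro ⟨a, b⟩ ⟨a', b'⟩ h
    have h' : (a : G) * b = a' * b' := congrArg Subtype.val h
    have h1 : (a' : G)⁻¹ * a = b' * (b : G)⁻¹ := by
      rw [inv_mul_eq_iff_eq_mul, ← mul_assoc, ← h', mul_assoc, mul_inv_cancel, mul_one]
    have h2 : (a' : G)⁻¹ * a ∈ A ⊓ B := by
      refine ⟨A.mul_mem (A.inv_mem a'.2) a.2, ?_⟩
      rw [h1]
      exact B.mul_mem b'.2 (B.inv_mem b.2)
    rw [hinf, Subgroup.mem_bot, inv_mul_eq_one] at h2
    have h3 : (b : G) = b' := by
      rw [h2] at h'
      exact mul_left_cancel h'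
    exact Prod.ext (Subtype.ext h2.symm) (Subtype.ext h3)
  · rintro ⟨g, hg⟩
    have hAB : A ≤ Subgroup.normalizer (B : Set G) := by
      intro a ha
      rw [Subgroup.mem_normalizer_iff]
      intro n
      constructor
      · intro hn
        have : a * n * a⁻¹ = n := by rw [hc a ha n hn, mul_assoc, mul_inv_cancel, mul_one]
        rw [this]; exact hn
      · intro hn
        have h1 : a⁻¹ * (a * n * a⁻¹) * a = n := by group
        have h2 : a⁻¹ * (a * n * a⁻¹) * a = a * n * a⁻¹ := by
          have := hc a ha _ hn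
          calc a⁻¹ * (a * n * a⁻¹) * a = a⁻¹ * ((a * n * a⁻¹) * a) := by group
            _ = a⁻¹ * (a * (a * n * a⁻¹)) := by rw [this]
            _ = a * n * a⁻¹ := by group
        rw [← h1, h2]; exact hn
    have := hg
    rw [← SetLike.mem_coe, Subgroup.coe_mul_of_left_le_normalizer_right A B hAB, Set.mem_mul]
      at this
    obtain ⟨a, ha, b, hb, rfl⟩ := this
    exact ⟨(⟨a, ha⟩, ⟨b, hb⟩), rfl⟩

theorem comm_sup_zpowers (z h : G) (hzh : z * h = h * z) :
    ∀ x ∈ Subgroup.zpowers z ⊔ Subgroup.zpowers h,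
      ∀ y ∈ Subgroup.zpowers z ⊔ Subgroup.zpowers h, x * y = y * x := by
  have hsup : Subgroup.zpowers z ⊔ Subgroup.zpowers h = Subgroup.closure {z, h} := by
    rw [Subgroup.zpowers_eq_closure, Subgroup.zpowers_eq_closure, ← Subgroup.closure_union]
    rfl
  have key : ∀ w : G, w * z = z * w → w * h = h * w →
      Subgroup.zpowers z ⊔ Subgroup.zpowers h ≤ Subgroup.centralizer {w} := by
    intro w hwz hwh
    rw [hsup, Subgroup.closure_le]
    intro u hu
    rw [SetLike.mem_coe, Subgroup.mem_centralizer_singleton_iff]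
    rcases hu with rfl | rfl
    · exact hwz.symm
    · exact hwh.symm
  intro x hx y hy
  have hxz : x * z = z * x := by
    have := key z rfl hzh hx
    rw [Subgroup.mem_centralizer_singleton_iff] at this
    exact this
  have hxh : x * h = h * x := by
    have := key h hzh.symm rfl hx
    rw [Subgroup.mem_centralizer_singleton_iff] at this
    exact this
  have := key x hxz hxh hy
  rw [Subgroup.mem_centralizer_singleton_iff] at this
  exact this.symm

end Cfsg.Agent.Lib.S3911
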