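import Mathlib

/-!
# S3911: minimal supplements of abelian subgroups of `G ⧸ M`

`exists_min_supp`: a subgroup `A` of `G`, minimal subject to `π(A) = Ā` (`Ā` abelian), has all its
Sylow subgroups normal.  `sylow_eq_bot_of_le`: a normal Sylow subgroup of such a minimal `A` which
lies in `M` is trivial (Schur–Zassenhaus).
-/

set_option autoImplicit false
set_option linter.style.haveILetI false

namespace Cfsg.Agent.Lib.S3911

variable {G : Type*} [Group G] [Finite G] (M : Subgroup G) [M.Normal]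

/-- a subgroup `Y` of `↥A` which supplements `A ⊓ M` in `A` has the same image as `A` in `G ⧸ M` -/
theorem map_map_subtype_eq (A : Subgroup G) (Y : Subgroup ↥A)
    (hY : Y ⊔ M.subgroupOf A = ⊤) :
    (Y.map A.subtype).map (QuotientGroup.mk' M) = A.map (QuotientGroup.mk' M) := by
  apply le_antisymm
  · exact Subgroup.map_mono (Subgroup.map_subtype_le Y)
  · rintro q ⟨a, ha, rfl⟩
    have hmem : (⟨a, ha⟩ : ↥A) ∈ Y ⊔ M.subgroupOf A := by rw [hY]; trivial
    obtain ⟨y, hy, n, hn, hyn⟩ := Subgroup.mem_sup_of_normal_right.1 hmem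
    rw [Subgroup.mem_subgroupOf] at hn
    refine ⟨(y : G), Subgroup.mem_map_of_mem _ hy, ?_⟩
    have h1 : (y : G) * (n : G) = a := congrArg Subtype.val hyn
    rw [← h1, map_mul]
    have h2 : (QuotientGroup.mk' M) (n : G) = 1 := (QuotientGroup.eq_one_iff _).2 hn
    rw [h2, mul_one]

theorem eq_top_of_map_subtype_eq (A : Subgroup G) (Y : Subgroup ↥A)
    (h : Y.map A.subtype = A) : Y = ⊤ := by
  apply Subgroup.map_injective A.subtype_injective
  rw [h, ← MonoidHom.range_eq_map, Subgroup.range_subtype]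

/-- a minimal supplement `A` of an abelian subgroup `Ā` of `G ⧸ M`: all its Sylow subgroups are
normal -/
theorem exists_min_supp (Abar : Subgroup (G ⧸ M)) (hA : IsMulCommutative ↥Abar) :
    ∃ A : Subgroup G, A.map (QuotientGroup.mk' M) = Abar ∧
      (∀ X : Subgroup G, X ≤ A → X.map (QuotientGroup.mk' M) = Abar → X = A) ∧
      (∀ (p : ℕ) [Fact p.Prime] (S : Sylow p ↥A), (S : Subgroup ↥A).Normal) := by
  classical
  have hsurj : Function.Surjective (QuotientGroup.mk' M) := QuotientGroup.mk'_surjective M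
  let 𝒮 : Set (Subgroup G) := {A | A.map (QuotientGroup.mk' M) = Abar}
  have hne : 𝒮.Nonempty :=
    ⟨Abar.comap (QuotientGroup.mk' M), Subgroup.map_comap_eq_self_of_surjective hsurj Abar⟩
  obtain ⟨A, hAS, hAmin⟩ :=
    Set.exists_min_image 𝒮 (fun A : Subgroup G => Nat.card A) (Set.toFinite 𝒮) hne
  have hAS' : A.map (QuotientGroup.mk' M) = Abar := hAS
  have hmin : ∀ X : Subgroup G, X ≤ A → X.map (QuotientGroup.mk' M) = Abar → X = A := by
    intro X hXA hX
    exact Subgroup.eq_of_le_of_card_ge hXA (hAmin X hX)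
  refine ⟨A, hAS', hmin, ?_⟩
  intro p _ S
  haveI hNn : (M.subgroupOf A).Normal := Subgroup.normal_subgroupOf
  have hcomm : ∀ a b : ↥A, a * b * a⁻¹ * b⁻¹ ∈ M.subgroupOf A := by
    intro a b
    rw [Subgroup.mem_subgroupOf, ← QuotientGroup.eq_one_iff]
    have ha' : (QuotientGroup.mk' M) (a : G) ∈ Abar := by
      rw [← hAS']; exact Subgroup.mem_map_of_mem _ a.2
    have hb' : (QuotientGroup.mk' M) (b : G) ∈ Abar := by
      rw [← hAS']; exact Subgroup.mem_map_of_mem _ b.2
    have hc : (QuotientGroup.mk' M) (a : G) * (QuotientGroup.mk' M) (b : G) =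
        (QuotientGroup.mk' M) (b : G) * (QuotientGroup.mk' M) (a : G) :=
      congrArg Subtype.val (IsMulCommutative.is_comm.comm
        (⟨(QuotientGroup.mk' M) (a : G), ha'⟩ : ↥Abar) ⟨(QuotientGroup.mk' M) (b : G), hb'⟩)
    have h3 : (((a * b * a⁻¹ * b⁻¹ : ↥A) : G) : G ⧸ M) =
        (QuotientGroup.mk' M) (a : G) * (QuotientGroup.mk' M) (b : G) *
          ((QuotientGroup.mk' M) (a : G))⁻¹ * ((QuotientGroup.mk' M) (b : G))⁻¹ := by
      simp
    rw [h3, hc, mul_inv_cancel_right, mul_inv_cancel]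
  haveI hTn : ((S : Subgroup ↥A) ⊔ M.subgroupOf A).Normal := by
    constructor
    intro h hh g
    have h1 : g * h * g⁻¹ = (g * h * g⁻¹ * h⁻¹) * h := by group
    rw [h1]
    exact Subgroup.mul_mem _ (le_sup_right (a := (S : Subgroup ↥A)) (hcomm g h)) hh
  have hST : (S : Subgroup ↥A) ≤ (S : Subgroup ↥A) ⊔ M.subgroupOf A := le_sup_left
  have hfr := Sylow.normalizer_sup_eq_top' S hST
  have hfr' : Subgroup.normalizer ((S : Subgroup ↥A) : Set ↥A) ⊔ M.subgroupOf A = ⊤ := by
    rw [eq_top_iff, ← hfr]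
    refine sup_le le_sup_left (sup_le ?_ le_sup_right)
    exact le_trans (Subgroup.le_normalizer (H := (S : Subgroup ↥A))) le_sup_left
  have hX := map_map_subtype_eq M A _ hfr'
  have hXeq := hmin _ (Subgroup.map_subtype_le _) (hX.trans hAS')
  exact Subgroup.normalizer_eq_top_iff.1 (eq_top_of_map_subtype_eq A _ hXeq)

/-- (R) a normal Sylow subgroup of a minimal supplement `A` which lies in `M` is trivial -/
theorem sylow_eq_bot_of_le (A : Subgroup G)
    (hmin : ∀ X : Subgroup G, X ≤ A →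
      X.map (QuotientGroup.mk' M) = A.map (QuotientGroup.mk' M) → X = A)
    (p : ℕ) [Fact p.Prime] (S : Sylow p ↥A) (hn : (S : Subgroup ↥A).Normal)
    (hS : (S : Subgroup ↥A).map A.subtype ≤ M) : (S : Subgroup ↥A) = ⊥ := by
  haveI := hn
  obtain ⟨T, hT⟩ := Subgroup.exists_right_complement'_of_coprime S.card_coprime_index
  have hSN : (S : Subgroup ↥A) ≤ M.subgroupOf A := by
    intro s hs
    rw [Subgroup.mem_subgroupOf]
    exact hS (Subgroup.mem_map_of_mem _ hs)
  have hsup : T ⊔ M.subgroupOf A = ⊤ := by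
    rw [eq_top_iff, ← hT.sup_eq_top]
    exact sup_le (le_sup_of_le_right hSN) le_sup_left
  have hX := map_map_subtype_eq M A T hsup
  have hXeq := hmin _ (Subgroup.map_subtype_le T) hX
  have htop : T = ⊤ := eq_top_of_map_subtype_eq A T hXeq
  have hd := hT.disjoint
  rw [htop] at hd
  exact disjoint_top.1 hd

end Cfsg.Agent.Lib.S3911
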