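import Mathlib
import Cfsg.Agent.S0016
import Cfsg.Agent.Lib.S3911.Cyc

/-!
# S3911: for p dividing |M|, a Sylow p-subgroup of G is cyclic or lies in M
-/

set_option autoImplicit false
set_option linter.style.haveILetI false

namespace Cfsg.Agent.Lib.S3911

theorem noncyclic_pair (Q : Type*) [Group Q] [Finite Q] (p : ℕ) [Fact p.Prime]
    (hQ : IsPGroup p Q) (hp2 : p ≠ 2) (hnc : ¬ IsCyclic Q) :
    ∃ z h : Q, orderOf z = p ∧ orderOf h = p ∧ z * h = h * z ∧ h ∉ Subgroup.zpowers z := by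
  have hpp : p.Prime := Fact.out
  have huniq : ¬ ∀ H K : Subgroup Q, Nat.card H = p → Nat.card K = p → H = K := by
    intro h
    rcases Cfsg.Agent.S0016.result p hQ h with h1 | ⟨h1, _⟩
    · exact hnc h1
    · exact hp2 h1
  push Not at huniq
  obtain ⟨H₁, H₂, hH₁, hH₂, hne⟩ := huniq
  have hnt : Nontrivial Q := by
    by_contra hnt
    rw [not_nontrivial_iff_subsingleton] at hnt
    have : Nat.card H₁ = 1 := Nat.card_eq_one_iff_unique.2 ⟨inferInstance, inferInstance⟩
    rw [hH₁] at this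
    exact hpp.one_lt.ne' this
  have hcn := hQ.center_nontrivial
  obtain ⟨z₀, hz₀⟩ : ∃ z₀ : ↥(Subgroup.center Q), orderOf z₀ = p := by
    apply exists_prime_orderOf_dvd_card' p
    have hpc : IsPGroup p ↥(Subgroup.center Q) := hQ.to_subgroup _
    obtain ⟨n, hn⟩ := IsPGroup.iff_card.1 hpc
    have hn0 : n ≠ 0 := by
      rintro rfl
      have := Finite.one_lt_card (α := ↥(Subgroup.center Q))
      rw [hn] at this
      simp at this
    rw [hn]; exact dvd_pow_self p hn0
  set z : Q := (z₀ : Q) with hz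
  have hzo : orderOf z = p := by rw [hz, Subgroup.orderOf_coe]; exact hz₀
  have hzc : ∀ g : Q, g * z = z * g := fun g => (Subgroup.mem_center_iff.1 z₀.2 g)
  -- a subgroup of order p different from zpowers z
  obtain ⟨H, hH, hHne⟩ : ∃ H : Subgroup Q, Nat.card H = p ∧ H ≠ Subgroup.zpowers z := by
    by_cases h1 : H₁ = Subgroup.zpowers z
    · exact ⟨H₂, hH₂, fun h2 => hne (h1.trans h2.symm)⟩
    · exact ⟨H₁, hH₁, h1⟩
  have hHbot : H ≠ ⊥ := by
    rintro rfl
    rw [Subgroup.card_bot] at hH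
    exact hpp.one_lt.ne hH
  obtain ⟨h, hhH, hh1⟩ := (Subgroup.ne_bot_iff_exists_ne_one).1 hHbot |>.imp
    (fun a ha => ha) |> fun ⟨a, ha⟩ => (⟨(a : Q), a.2, fun h => ha (Subtype.ext h)⟩ :
      ∃ h : Q, h ∈ H ∧ h ≠ 1)
  have hho : orderOf h = p := by
    have hd : orderOf h ∣ p := by
      have : orderOf (⟨h, hhH⟩ : H) ∣ Nat.card H := orderOf_dvd_natCard _
      rw [hH, ← Subgroup.orderOf_coe] at this
      exact this
    rcases (Nat.dvd_prime hpp).1 hd with h1 | h1
    · exact absurd (orderOf_eq_one_iff.1 h1) hh1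
    · exact h1
  have hzpH : Subgroup.zpowers h = H := by
    apply Subgroup.eq_of_le_of_card_ge ((Subgroup.zpowers_le).2 hhH)
    rw [Nat.card_zpowers, hho, hH]
  refine ⟨z, h, hzo, hho, (hzc h).symm, ?_⟩
  intro hmem
  apply hHne
  rw [← hzpH]
  apply Subgroup.eq_of_le_of_card_ge ((Subgroup.zpowers_le).2 hmem)
  rw [Nat.card_zpowers, Nat.card_zpowers, hho, hzo]

variable {G : Type*} [Group G]

variable [Finite G]

theorem no_order_sq
    (hB : ∀ A B : Subgroup G, IsMulCommutative ↥A → IsMulCommutative ↥B →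
      Nat.card ↥A = Nat.card ↥B → ∃ g : G, B = A.map (MulAut.conj g).toMonoidHom)
    (p : ℕ) [Fact p.Prime] (z h : G) (hz : orderOf z = p) (hh : orderOf h = p)
    (hzh : z * h = h * z) (hnot : h ∉ Subgroup.zpowers z) (y : G) (hy : orderOf y = p ^ 2) :
    False := by
  have hpp : p.Prime := Fact.out
  set Z := Subgroup.zpowers z with hZ
  set H := Subgroup.zpowers h with hH
  have hZc : Nat.card ↥Z = p := by rw [hZ, Nat.card_zpowers, hz]
  have hHc : Nat.card ↥H = p := by rw [hH, Nat.card_zpowers, hh]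
  have hinf : Z ⊓ H = ⊥ := by
    haveI : Fact (Nat.card ↥H).Prime := ⟨by rw [hHc]; exact hpp⟩
    have hsub : (Z ⊓ H).subgroupOf H = ⊥ ∨ (Z ⊓ H).subgroupOf H = ⊤ :=
      Subgroup.eq_bot_or_eq_top_of_prime_card _
    rcases hsub with h1 | h1
    · rw [Subgroup.subgroupOf_eq_bot] at h1
      rw [disjoint_iff, inf_assoc, inf_idem] at h1
      exact h1
    · rw [Subgroup.subgroupOf_eq_top] at h1
      exact absurd ((h1.trans inf_le_left) (Subgroup.mem_zpowers h)) hnot
  have hcomm : ∀ a ∈ Z, ∀ b ∈ H, a * b = b * a := by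
    intro a ha b hb
    exact comm_sup_zpowers z h hzh a (Subgroup.mem_sup_left ha) b (Subgroup.mem_sup_right hb)
  set E := Z ⊔ H with hE
  have hEc : Nat.card ↥E = p ^ 2 := by
    rw [hE, card_sup_comm Z H hcomm hinf, hZc, hHc, sq]
  have hEcomm : IsMulCommutative ↥E := by
    rw [isMulCommutative_iff]
    intro a b
    apply Subtype.ext
    exact comm_sup_zpowers z h hzh a a.2 b b.2
  set C := Subgroup.zpowers y with hC
  have hCc : Nat.card ↥C = p ^ 2 := by rw [hC, Nat.card_zpowers, hy]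
  obtain ⟨g, hg⟩ := hB C E inferInstance hEcomm (hCc.trans hEc.symm)
  have hEcyc : IsCyclic ↥E := by
    rw [hg]
    exact isCyclic_of_surjective ((MulAut.conj g).toMonoidHom.subgroupMap C)
      ((MulAut.conj g).toMonoidHom.subgroupMap_surjective C)
  have hle : H ≤ Z := le_of_card_dvd_of_le_cyclic E H Z le_sup_right le_sup_left
    (by rw [hZc, hHc])
  exact hnot (hle (Subgroup.mem_zpowers h))

theorem mem_of_orderOf_eq (M : Subgroup G) [M.Normal]
    (hB : ∀ A B : Subgroup G, IsMulCommutative ↥A → IsMulCommutative ↥B →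
      Nat.card ↥A = Nat.card ↥B → ∃ g : G, B = A.map (MulAut.conj g).toMonoidHom)
    (p : ℕ) [Fact p.Prime] (hp : p ∣ Nat.card ↥M) (x : G) (hx : orderOf x = p) : x ∈ M := by
  obtain ⟨m, hm⟩ := exists_prime_orderOf_dvd_card' p hp
  have hm' : orderOf (m : G) = p := by rw [Subgroup.orderOf_coe]; exact hm
  have hc : Nat.card ↥(Subgroup.zpowers (m : G)) = Nat.card ↥(Subgroup.zpowers x) := by
    rw [Nat.card_zpowers, Nat.card_zpowers, hm', hx]
  obtain ⟨g, hg⟩ := hB (Subgroup.zpowers (m : G)) (Subgroup.zpowers x) inferInstance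
    inferInstance hc
  have hxmem : x ∈ Subgroup.zpowers x := Subgroup.mem_zpowers x
  rw [hg] at hxmem
  obtain ⟨y, hy, rfl⟩ := hxmem
  have hyM : y ∈ M := ((Subgroup.zpowers_le).2 m.2) hy
  exact (inferInstance : M.Normal).conj_mem y hyM g

theorem sylow_cyclic_or_le (M : Subgroup G) [M.Normal]
    (hB : ∀ A B : Subgroup G, IsMulCommutative ↥A → IsMulCommutative ↥B →
      Nat.card ↥A = Nat.card ↥B → ∃ g : G, B = A.map (MulAut.conj g).toMonoidHom)
    (hM : Odd (Nat.card ↥M)) (p : ℕ) [Fact p.Prime] (hp : p ∣ Nat.card ↥M) (P : Sylow p G) :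
    IsCyclic ↥(P : Subgroup G) ∨ (P : Subgroup G) ≤ M := by
  by_cases hcyc : IsCyclic ↥(P : Subgroup G)
  · exact Or.inl hcyc
  right
  have hpp : p.Prime := Fact.out
  have hp2 : p ≠ 2 := by
    rintro rfl
    exact (Nat.not_even_iff_odd.2 hM) (even_iff_two_dvd.2 hp)
  obtain ⟨z₀, h₀, hz₀, hh₀, hzh₀, hnot₀⟩ :=
    noncyclic_pair ↥(P : Subgroup G) p P.isPGroup' hp2 hcyc
  have hz : orderOf (z₀ : G) = p := by rw [Subgroup.orderOf_coe]; exact hz₀
  have hh : orderOf (h₀ : G) = p := by rw [Subgroup.orderOf_coe]; exact hh₀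
  have hzh : (z₀ : G) * (h₀ : G) = (h₀ : G) * (z₀ : G) := by
    have := congrArg Subtype.val hzh₀
    simpa using this
  have hnot : (h₀ : G) ∉ Subgroup.zpowers (z₀ : G) := by
    intro hmem
    apply hnot₀
    obtain ⟨k, hk⟩ := Subgroup.mem_zpowers_iff.1 hmem
    refine Subgroup.mem_zpowers_iff.2 ⟨k, ?_⟩
    apply Subtype.ext
    simpa using hk
  intro x hx
  obtain ⟨k, hk⟩ := (IsPGroup.iff_orderOf.1 P.isPGroup') ⟨x, hx⟩
  have hk' : orderOf x = p ^ k := by
    rw [← hk, ← Subgroup.orderOf_coe]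
  rcases Nat.lt_or_ge k 2 with hk2 | hk2
  · interval_cases k
    · rw [pow_zero, orderOf_eq_one_iff] at hk'
      rw [hk']; exact M.one_mem
    · rw [pow_one] at hk'
      exact mem_of_orderOf_eq M hB p hp x hk'
  · exfalso
    have hy : orderOf (x ^ p ^ (k - 2)) = p ^ 2 := by
      rw [orderOf_pow_of_dvd (pow_ne_zero _ hpp.ne_zero)
        (by rw [hk']; exact pow_dvd_pow p (Nat.sub_le k 2)), hk']
      rw [Nat.pow_div (Nat.sub_le k 2) hpp.pos]
      congr 1
      omega
    exact no_order_sq hB p (z₀ : G) (h₀ : G) hz hh hzh hnot _ hy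

end Cfsg.Agent.Lib.S3911
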